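import Groth.Agent.Lib.FittSheaf.Basic
import Groth.Agent.H25.FittingLoc
import Groth.Agent.Lib.Modules.FreeStalk
import Groth.Agent.Lib.TensorMod.FPCrit
import Groth.Agent.Lib.TensorMod.FPConv
import Mathlib.RingTheory.LocalRing.Module
import Mathlib.RingTheory.Flat.Localization

/-!
# Fitting ideals, numbers of generators and local freeness
-/

universe u

open CategoryTheory AlgebraicGeometry TopologicalSpace Opposite

namespace Groth.Agent.Lib.FittSheaf

open Groth.Agent Groth.Agent.Lib

variable {X : Scheme.{u}} (F : X.Modules)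

/-- A free restriction gives free stalks of the same rank. -/
theorem stalk_of_free {W : X.Opens} {n : ℕ} (i : F.restrict W.ι ≅ FlatMod.freeMod (↑W) n)
    {x : X} (hx : x ∈ W) :
    Module.Free (X.presheaf.stalk x) (F.presheaf.stalk x) ∧
      Module.finrank (X.presheaf.stalk x) (F.presheaf.stalk x) = n := by
  let e := ((Modules.StalkModule.stalkModFunctor (W : Scheme.{u}) ⟨x, hx⟩).mapIso i).toLinearEquiv
  let b := Modules.FreeStalk.stalkBasis (W : Scheme.{u}) n ⟨x, hx⟩
  constructor
  · haveI : Module.Free ((W : Scheme.{u}).presheaf.stalk ⟨x, hx⟩)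
        ((F.restrict W.ι).presheaf.stalk ⟨x, hx⟩) := Module.Free.of_basis (b.map e.symm)
    exact TensorMod.FPConv.free_stalk_of_restrict W.ι F ⟨x, hx⟩
  · have h2 : Module.rank (X.presheaf.stalk (W.ι ⟨x, hx⟩)) (F.presheaf.stalk (W.ι ⟨x, hx⟩)) = _ :=
      rank_eq_of_equiv_equiv (W.ι.stalkMap ⟨x, hx⟩)
        (Modules.StalkRestrict.restrictStalkAddEquiv W.ι F ⟨x, hx⟩).symm
        (ConcreteCategory.bijective_of_isIso _) fun r m => by
          apply (Modules.StalkRestrict.restrictStalkAddEquiv W.ι F ⟨x, hx⟩).injective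
          rw [AddEquiv.apply_symm_apply]
          refine Eq.trans ?_ (Modules.StalkRestrict.restrictStalkAddEquiv_smul W.ι F ⟨x, hx⟩ r _).symm
          rw [AddEquiv.apply_symm_apply]
    refine Module.finrank_eq_of_rank_eq (h2.trans (e.rank_eq.trans ?_))
    exact (rank_eq_card_basis b).trans (by rw [Fintype.card_fin])

/-- An epimorphism from a free module of rank `r` gives `r` generators of each stalk. -/
theorem exists_stalk_generators {U : X.Opens} {r : ℕ} (π : FlatMod.freeMod (↑U) r ⟶ F.restrict U.ι)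
    [Epi π] {x : X} (hx : x ∈ U) :
    ∃ g : Fin r → F.presheaf.stalk x,
      Submodule.span (X.presheaf.stalk x) (Set.range g) = ⊤ := by
  let y : (U : Scheme.{u}) := ⟨x, hx⟩
  let b := Modules.FreeStalk.stalkBasis (U : Scheme.{u}) r y
  have hsurj := (Modules.StalkModule.epi_iff_stalkMapₗ_surjective π).1 ‹Epi π› y
  let h : Fin r → (F.restrict U.ι).presheaf.stalk y := fun i => Modules.StalkModule.stalkMapₗ π y (b i)
  have hh : Submodule.span ((U : Scheme.{u}).presheaf.stalk y) (Set.range h) = ⊤ := by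
    rw [show Set.range h = Modules.StalkModule.stalkMapₗ π y '' Set.range b from Set.range_comp _ _,
      Submodule.span_image, b.span_eq, Submodule.map_top, LinearMap.range_eq_top.2 hsurj]
  refine ⟨fun i => Modules.StalkRestrict.restrictStalkAddEquiv U.ι F y (h i), ?_⟩
  refine eq_top_iff.2 fun v _ => ?_
  obtain ⟨w, rfl⟩ := (Modules.StalkRestrict.restrictStalkAddEquiv U.ι F y).surjective v
  have h2 := Modules.StalkRestrict.span_image_restrictStalkAddEquiv U.ι F y (Set.range h)
  rw [← Set.range_comp] at h2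
  exact h2.ge ⟨w, hh.ge trivial, rfl⟩

variable [F.IsQuasicoherent] [SheafOfModules.IsFiniteType (R := X.ringCatSheaf) F]

/-- If the `r`-th Fitting ideal is trivial at `x`, then `F` is generated by `r` sections near `x`. -/
theorem exists_epi_of_fitt {x : X} {r : ℕ}
    (h : Fitt.ideal (X.presheaf.stalk x) (F.presheaf.stalk x) r = ⊤) :
    ∃ U : X.Opens, x ∈ U ∧ ∃ π : FlatMod.freeMod (↑U) r ⟶ F.restrict U.ι, Epi π := by
  classical
  obtain ⟨U, hU, hx, -⟩ := exists_isAffineOpen_mem_and_subset (show x ∈ (⊤ : X.Opens) from trivial)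
  haveI : Module.Finite Γ(X, U) Γ(F, U) := CohBasics.Affine.finite_sections hU
  obtain ⟨n, v, hv⟩ := Module.Finite.exists_fin (R := Γ(X, U)) (M := Γ(F, U))
  rw [fitt_stalk F hU hx, H25.Fitting.ideal_eq v hv, H25.Fitting.Mn, Ideal.map_span] at h
  obtain ⟨z, e, hz, hu⟩ : ∃ (z : Fin (n - r) → Fin n → Γ(X, U)) (e : Fin (n - r) → Fin n),
      (∀ b, z b ∈ H25.Fitting.rel v) ∧
      IsUnit (X.presheaf.germ U x hx (H25.Fitting.minor z e)) := by
    by_contra hc
    refine (IsLocalRing.maximalIdeal.isMaximal (X.presheaf.stalk x)).ne_top (top_le_iff.1 (h ▸ ?_))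
    rw [Ideal.span_le]
    rintro _ ⟨d, ⟨z, e, hz, rfl⟩, rfl⟩
    exact fun hu => hc ⟨z, e, hz, hu⟩
  have he : Function.Injective e := by
    by_contra he
    rw [H25.Fitting.minor_eq_zero_of_not_injective z e he, map_zero] at hu
    exact not_isUnit_zero hu
  set c := H25.Fitting.minor z e
  obtain ⟨g, hg⟩ := H25.Fitting.exists_span_sup v hv 1 c (by rw [Ideal.span_singleton_one]; exact le_top)
    z hz e he (one_mul c).symm
  have hg' : ∀ w, c • w ∈ Submodule.span Γ(X, U) (Set.range g) := fun w => by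
    have := hg w
    rwa [one_smul, LinearMap.ker_id, sup_bot_eq] at this
  let V : X.Opens := X.basicOpen c
  refine ⟨V, (X.mem_basicOpen c x hx).2 hu, ?_⟩
  have htop : V.ι ''ᵁ ⊤ = V := V.ι_image_top
  let t : Fin r → Γ(F.restrict V.ι, ⊤) := fun i =>
    F.presheaf.map (homOfLE (htop.le.trans (X.basicOpen_le c))).op (g i)
  refine ⟨Modules.Free.freeHom t, (Modules.StalkModule.epi_iff_stalkMapₗ_surjective _).2 fun y => ?_⟩
  rw [← LinearMap.range_eq_top, eq_top_iff]
  intro w _
  have hyU : V.ι y ∈ U := X.basicOpen_le c y.2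
  have hcu : IsUnit (X.presheaf.germ U (V.ι y) hyU c) := (X.mem_basicOpen c _ hyU).1 y.2
  have hspan : Submodule.span (X.presheaf.stalk (V.ι y))
      (Set.range fun i => F.presheaf.germ U (V.ι y) hyU (g i)) = ⊤ := by
    rw [eq_top_iff, ← CohBasics.Affine.germ_span_eq_top hU _ hv hyU, Submodule.span_le]
    rintro _ ⟨_, ⟨j, rfl⟩, rfl⟩
    refine (Submodule.smul_mem_iff_of_isUnit _ hcu).1 ?_
    rw [← Modules.StalkModule.germ_smul]
    have key : ∀ u ∈ Submodule.span Γ(X, U) (Set.range g), F.presheaf.germ U (V.ι y) hyU u ∈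
        Submodule.span (X.presheaf.stalk (V.ι y))
          (Set.range fun i => F.presheaf.germ U (V.ι y) hyU (g i)) := by
      intro u hu
      induction hu using Submodule.span_induction with
      | mem u hu => obtain ⟨i, rfl⟩ := hu; exact Submodule.subset_span ⟨i, rfl⟩
      | zero => rw [map_zero]; exact zero_mem _
      | add _ _ _ _ h₁ h₂ => rw [map_add]; exact add_mem h₁ h₂
      | smul a u _ h => rw [Modules.StalkModule.germ_smul]; exact Submodule.smul_mem _ _ h
    exact key _ (hg' _)
  let h' : Fin r → (F.restrict V.ι).presheaf.stalk y := fun i =>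
    Modules.StalkModule.stalkMapₗ (Modules.Free.freeHom t) y
      ((FlatMod.freeMod (↑V) r).presheaf.germ ⊤ y trivial (Modules.Free.gen _ i))
  have hh' : ∀ i, Modules.StalkRestrict.restrictStalkAddEquiv V.ι F y (h' i) =
      F.presheaf.germ U (V.ι y) hyU (g i) := fun i => by
    simp only [h']
    rw [Modules.StalkModule.stalkMapₗ_germ, Modules.Free.freeHom_app_gen]
    refine (Modules.StalkRestrict.restrictStalkAddEquiv_germ V.ι F (U := ⊤) trivial _).trans ?_
    exact TopCat.Presheaf.germ_res_apply _ _ _ _ _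
  have h2 := Modules.StalkRestrict.span_image_restrictStalkAddEquiv V.ι F y (Set.range h')
  obtain ⟨w', hw', hww'⟩ := h2.le (show Modules.StalkRestrict.restrictStalkAddEquiv V.ι F y w ∈
      Submodule.span _ (Modules.StalkRestrict.restrictStalkAddEquiv V.ι F y '' Set.range h') by
    rw [← Set.range_comp, show _ ∘ h' = fun i => F.presheaf.germ U (V.ι y) hyU (g i) from funext hh',
      hspan]
    exact Submodule.mem_top)
  rw [(Modules.StalkRestrict.restrictStalkAddEquiv V.ι F y).injective hww'] at hw'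
  refine (Submodule.span_le.2 ?_) hw'
  rintro _ ⟨i, rfl⟩
  exact ⟨_, rfl⟩

/-- The Fitting subscheme is the locus where more generators are needed. -/
theorem exists_epi_iff (x : X) (r : ℕ) :
    (∃ U : X.Opens, x ∈ U ∧ ∃ π : FlatMod.freeMod (↑U) r ⟶ F.restrict U.ι, Epi π) ↔
      x ∉ (Fitt.sheafIdeal F r).support := by
  rw [not_mem_support_iff]
  refine ⟨?_, exists_epi_of_fitt F⟩
  rintro ⟨U, hx, π, hπ⟩
  obtain ⟨g, hg⟩ := exists_stalk_generators F π hx
  exact H25.Fitting.ideal_eq_top g hg le_rfl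

/-- Local freeness of rank `r` in terms of Fitting ideals. -/
theorem isFinLocFreeOfRank_iff (r : ℕ) :
    FlatMod.IsFinLocFreeOfRank r F ↔
      (∀ k : ℕ, k < r → Fitt.sheafIdeal F k = ⊥) ∧ (∀ k : ℕ, r ≤ k → Fitt.sheafIdeal F k = ⊤) := by
  constructor
  · intro hF
    have hst : ∀ x : X, Module.Free (X.presheaf.stalk x) (F.presheaf.stalk x) ∧
        Module.finrank (X.presheaf.stalk x) (F.presheaf.stalk x) = r := fun x => by
      obtain ⟨W, hxW, ⟨i⟩⟩ := hF x
      exact stalk_of_free F i hxW
    refine ⟨fun k hk => ?_, fun k hk => ?_⟩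
    · refine Scheme.IdealSheafData.ext (funext fun U => ?_)
      rw [Scheme.IdealSheafData.ideal_bot]
      refine eq_of_map_germ U.2 fun x hx => ?_
      haveI := (hst x).1
      haveI : Module.Finite Γ(X, U.1) Γ(F, U.1) := CohBasics.Affine.finite_sections U.2
      haveI := finite_stalk F U.2 hx
      rw [map_sheafIdeal, H25.Fitting.ideal_eq_bot_of_free (by rw [(hst x).2]; exact hk)]
      exact Ideal.map_bot.symm
    · refine Scheme.IdealSheafData.ext (funext fun U => ?_)
      rw [Scheme.IdealSheafData.ideal_top]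
      refine eq_of_map_germ U.2 fun x hx => ?_
      haveI := (hst x).1
      haveI : Module.Finite Γ(X, U.1) Γ(F, U.1) := CohBasics.Affine.finite_sections U.2
      haveI := finite_stalk F U.2 hx
      rw [map_sheafIdeal,
        H25.Fitting.ideal_eq_top _ (Module.finBasis _ _).span_eq ((hst x).2.le.trans hk)]
      exact (Ideal.map_top _).symm
  · rintro ⟨hbot, htop⟩ x
    obtain ⟨U, hU, hx, -⟩ := exists_isAffineOpen_mem_and_subset (show x ∈ (⊤ : X.Opens) from trivial)
    haveI : Module.Finite Γ(X, U) Γ(F, U) := CohBasics.Affine.finite_sections hU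
    have hbot' : ∀ k < r, Fitt.ideal Γ(X, U) Γ(F, U) k = ⊥ := fun k hk => by
      rw [← ideal_sheafIdeal F ⟨U, hU⟩ k, hbot k hk, Scheme.IdealSheafData.ideal_bot]; rfl
    have htop' : ∀ k, r ≤ k → Fitt.ideal Γ(X, U) Γ(F, U) k = ⊤ := fun k hk => by
      rw [← ideal_sheafIdeal F ⟨U, hU⟩ k, htop k hk, Scheme.IdealSheafData.ideal_top]; rfl
    have hP : H25.Fitting.Principal Γ(F, U) r (1 : Γ(X, U)) :=
      ⟨one_mem _, by rw [Ideal.span_singleton_one]; exact htop' r le_rfl,
        fun j hj => hbot' j (by omega)⟩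
    haveI : Module.Projective Γ(X, U) Γ(F, U) := by
      haveI := hP.projective_quot
      exact Module.Projective.of_equiv (Submodule.quotEquivOfEqBot
        (LinearMap.ker ((1 : Γ(X, U)) • (LinearMap.id : Γ(F, U) →ₗ[Γ(X, U)] Γ(F, U))))
        (by rw [one_smul, LinearMap.ker_id]))
    haveI := Module.finitePresentation_of_projective Γ(X, U) Γ(F, U)
    haveI := finite_stalk F hU hx
    haveI : Module.Free (X.presheaf.stalk x) (F.presheaf.stalk x) := by
      letI := X.presheaf.algebra_section_stalk ⟨x, hx⟩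
      letI := StalkLoc.Basic.moduleSections F hx
      haveI := StalkLoc.Basic.isScalarTower_sections F hx
      haveI := hU.isLocalization_stalk ⟨x, hx⟩
      haveI := StalkLoc.Basic.isLocalizedModule_germ (M := F) hU hx
      haveI : Module.Flat (X.presheaf.stalk x) (F.presheaf.stalk x) :=
        Module.Flat.of_isLocalizedModule (X.presheaf.stalk x)
          (hU.primeIdealOf ⟨x, hx⟩).asIdeal.primeCompl (StalkLoc.Basic.germₗ F hx)
      haveI : Module.FinitePresentation (X.presheaf.stalk x) (F.presheaf.stalk x) :=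
        FinitePresentation.of_isBaseChange (StalkLoc.Basic.germₗ F hx)
          (IsLocalizedModule.isBaseChange (hU.primeIdealOf ⟨x, hx⟩).asIdeal.primeCompl _ _)
      exact Module.free_of_flat_of_isLocalRing
    obtain ⟨W, n, hW, ⟨i⟩⟩ := TensorMod.FPCrit.exists_free_nhd (M := F) hU hx
    have hn := (stalk_of_free F i hW).2
    have hne : ∀ k, Fitt.ideal (X.presheaf.stalk x) (F.presheaf.stalk x) k = ⊥ →
        Fitt.ideal (X.presheaf.stalk x) (F.presheaf.stalk x) k ≠ ⊤ := fun k h => h ▸ bot_ne_top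
    have : n = r := by
      rcases lt_trichotomy n r with h | h | h
      · exfalso
        refine hne n ?_ (H25.Fitting.ideal_eq_top _ (Module.finBasis _ _).span_eq hn.le)
        rw [fitt_stalk F hU hx, hbot' n h, Ideal.map_bot]
      · exact h
      · exfalso
        refine hne r (H25.Fitting.ideal_eq_bot_of_free (hn.symm ▸ h)) ?_
        rw [fitt_stalk F hU hx, htop' r le_rfl, Ideal.map_top]
    exact ⟨W, hW, ⟨this ▸ i⟩⟩

end Groth.Agent.Lib.FittSheaf
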