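import Groth.Agent.Lib.JacCrit.Point
import Groth.Agent.Lib.JacCrit.Fiber
import Groth.Agent.H25.Fitting

/-!
# Differentials generated by as many elements as the local dimension force smoothness
-/

universe u

open IsLocalRing TensorProduct Groth.Agent.Lib.Dim.Local

namespace Groth.Agent.Lib.FittSheaf.JacSpan

open Groth.Agent.Lib Groth.Agent.Lib.JacCrit

theorem span_map_baseChange {R S : Type u} [CommRing R] [CommRing S] [Algebra R S] {M N : Type u}
    [AddCommGroup M] [Module R M] [AddCommGroup N] [Module S N] (e : S ⊗[R] M ≃ₗ[S] N) {n : ℕ}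
    (v : Fin n → M) (hv : Submodule.span R (Set.range v) = ⊤) :
    Submodule.span S (Set.range fun i => e (1 ⊗ₜ v i)) = ⊤ := by
  have h := Groth.Agent.H25.Fitting.span_range_baseChange S v hv
  have : Set.range (fun i => e (1 ⊗ₜ v i)) = e '' Set.range fun i => (1 : S) ⊗ₜ[R] v i :=
    Set.range_comp e _
  rw [this, ← LinearEquiv.coe_coe, Submodule.span_image, h, Submodule.map_top, LinearEquiv.range]

/-- At a rational point the cotangent space embeds into the differentials. -/
theorem spanFinrank_le_of_span (k : Type u) [Field k] {R : Type u} [CommRing R] [IsLocalRing R]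
    [IsNoetherianRing R] [Algebra k R] (hk : Function.Surjective (algebraMap k (ResidueField R)))
    {n : ℕ} (v : Fin n → Ω[R⁄k]) (hv : Submodule.span R (Set.range v) = ⊤) :
    (maximalIdeal R).spanFinrank ≤ n := by
  set m := maximalIdeal R
  let e : k ≃+* ResidueField R := RingEquiv.ofBijective (algebraMap k (ResidueField R))
    ⟨(algebraMap k (ResidueField R)).injective, hk⟩
  let c : R →+* k := e.symm.toRingHom.comp (residue R)
  have hc : ∀ x, x - algebraMap k R (c x) ∈ m := fun x => by
    rw [← IsLocalRing.residue_eq_zero_iff, map_sub, sub_eq_zero]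
    exact (e.apply_symm_apply (residue R x)).symm
  have hck : ∀ a : k, c (algebraMap k R a) = a := fun a => e.symm_apply_apply a
  let D : Derivation k R m.Cotangent := Derivation.mk'
    { toFun := fun x => m.toCotangent ⟨x - algebraMap k R (c x), hc x⟩
      map_add' := fun x y => by
        rw [← map_add]
        exact congrArg _ (Subtype.ext (by simp only [map_add, Submodule.coe_add]; ring))
      map_smul' := fun a x => by
        rw [RingHom.id_apply, ← IsScalarTower.algebraMap_smul R a (m.toCotangent _), ← map_smul]
        exact congrArg _ (Subtype.ext (by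
          simp only [Algebra.smul_def, map_mul, hck, SetLike.val_smul,
            Algebra.algebraMap_self, RingHom.id_apply]
          ring)) } fun x y => by
      change m.toCotangent _ = x • m.toCotangent _ + y • m.toCotangent _
      rw [← map_smul, ← map_smul, ← map_add, Ideal.toCotangent_eq]
      have h := Ideal.mul_mem_mul (hc x) (hc y)
      rw [← pow_two, ← neg_mem_iff] at h
      convert h using 1
      simp only [map_mul, Submodule.coe_add, SetLike.val_smul, smul_eq_mul]
      ring
  have hsurj : Function.Surjective D.liftKaehlerDifferential := fun v => by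
    obtain ⟨⟨x, hx⟩, rfl⟩ := m.toCotangent_surjective v
    refine ⟨KaehlerDifferential.D k R x, (Derivation.liftKaehlerDifferential_comp_D D x).trans ?_⟩
    refine congrArg _ (Subtype.ext ?_)
    have : c x = 0 := by
      change e.symm (residue R x) = 0
      rw [(IsLocalRing.residue_eq_zero_iff x).mpr hx, map_zero]
    simp [this]
  rw [spanFinrank_maximalIdeal_eq_finrank_cotangentSpace]
  have hspan : Submodule.span (ResidueField R)
      (Set.range fun i => (D.liftKaehlerDifferential (v i) : CotangentSpace R)) = ⊤ := by
    rw [← Submodule.restrictScalars_eq_top_iff R, eq_top_iff]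
    refine le_trans ?_ (Submodule.span_le_restrictScalars R (ResidueField R) _)
    rw [show (Set.range fun i => (D.liftKaehlerDifferential (v i) : CotangentSpace R)) =
      D.liftKaehlerDifferential '' Set.range v from Set.range_comp D.liftKaehlerDifferential v]
    exact le_of_eq (by
      rw [← Submodule.map_span, hv, Submodule.map_top, LinearMap.range_eq_top.mpr hsurj])
  rw [← finrank_top, ← hspan]
  exact (finrank_range_le_card (fun i => (D.liftKaehlerDifferential (v i) : CotangentSpace R))).trans
    (Fintype.card_fin n).le

variable (K : Type u) [Field K] {B : Type u} [CommRing B] [Algebra K B] [Algebra.FiniteType K B]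

/-- At a closed point over an algebraically closed field. -/
theorem isSmoothAt_closed_of_span [IsAlgClosed K] {n : ℕ} (v : Fin n → Ω[B⁄K])
    (hv : Submodule.span B (Set.range v) = ⊤)
    (m : Ideal B) [m.IsMaximal] (hdim : n ≤ dimAt K m) : Algebra.IsSmoothAt K m := by
  let R := Localization.AtPrime m
  haveI : IsNoetherianRing B := Algebra.FiniteType.isNoetherianRing K B
  haveI : IsNoetherianRing R := IsLocalization.isNoetherianRing m.primeCompl R inferInstance
  haveI : Module.Finite K (B ⧸ m) := by
    letI := Ideal.Quotient.field m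
    exact finite_of_finite_type_of_isJacobsonRing K (B ⧸ m)
  have hk : Function.Surjective (algebraMap K m.ResidueField) := by
    have h1 := (Ideal.bijective_algebraMap_quotient_residueField m).2
    have h2 : Function.Surjective (algebraMap K (B ⧸ m)) :=
      (IsAlgClosed.algebraMap_bijective_of_isIntegral (k := K) (K := B ⧸ m)).2
    rw [IsScalarTower.algebraMap_eq K (B ⧸ m) m.ResidueField]
    exact h1.comp h2
  haveI : Algebra.FormallySmooth K m.ResidueField :=
    Algebra.FormallySmooth.of_equiv (AlgEquiv.ofBijective (Algebra.ofId K m.ResidueField)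
      ⟨(algebraMap K m.ResidueField).injective, hk⟩)
  haveI : Algebra.FormallyEtale B R := .of_isLocalization m.primeCompl
  have hle := spanFinrank_le_of_span K (R := R) hk _ (span_map_baseChange
    (KaehlerDifferential.tensorKaehlerEquivOfFormallyEtale K B R) v hv)
  haveI : IsRegularLocalRing R := IsRegularLocalRing.of_spanFinrank_maximalIdeal_le R (by
    rw [IsLocalization.AtPrime.ringKrullDim_eq_height m R, height_maximal_eq_dimAt K m]
    exact_mod_cast hle.trans hdim)
  exact Regular.isSmoothAt K m

variable {A : Type u} [CommRing A]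

/-- Free differentials of rank the local dimension: smooth. -/
theorem isSmoothAt_of_span (k : Type u) [Field k] [Algebra k A] [Algebra.FiniteType k A]
    {n : ℕ} (v : Fin n → Ω[A⁄k]) (hv : Submodule.span A (Set.range v) = ⊤) (p : Ideal A) [p.IsPrime]
    (hdim : n ≤ dimAt k p) : Algebra.IsSmoothAt k p := by
  let K := AlgebraicClosure k
  let B := K ⊗[k] A
  letI : Algebra A B := Algebra.TensorProduct.rightAlgebra
  haveI : Algebra.IsPushout k K A B := inferInstance
  haveI : Algebra.FinitePresentation k A := Algebra.FinitePresentation.of_finiteType.mp ‹_›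
  have hvB := span_map_baseChange (KaehlerDifferential.tensorKaehlerEquiv k K A B) v hv
  -- every prime over `p` is a smooth point
  have hover : ∀ P : PrimeSpectrum B, PrimeSpectrum.comap (algebraMap A B) P = ⟨p, inferInstance⟩ →
      P ∈ Algebra.smoothLocus K B := by
    intro P hP
    obtain ⟨m, hm, hPm⟩ := Ideal.exists_le_maximal P.asIdeal P.isPrime.ne_top
    have h1 : dimAt K P.asIdeal = dimAt k p := by
      rw [Dim.FieldExt.dimAt_baseChange]
      congr 1
      exact congrArg PrimeSpectrum.asIdeal hP
    have h2 : Algebra.IsSmoothAt K m :=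
      isSmoothAt_closed_of_span K _ hvB m (hdim.trans (h1.symm.le.trans (dimAt_mono K hPm)))
    exact (Algebra.isOpen_smoothLocus (R := K) (A := B)).stableUnderGeneralization
      ((PrimeSpectrum.le_iff_specializes P ⟨m, hm.isPrime⟩).mp hPm) h2
  haveI : Algebra.IsIntegral A B := Algebra.IsPushout.isIntegral' k A K B
  obtain ⟨_, ⟨g, rfl⟩, hpg, hg⟩ :=
    PrimeSpectrum.isTopologicalBasis_basic_opens.exists_subset_of_mem_open
      (show (⟨p, inferInstance⟩ : PrimeSpectrum A) ∈
          (PrimeSpectrum.comap (algebraMap A B) '' (Algebra.smoothLocus K B)ᶜ)ᶜ from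
        fun ⟨P, hP, hPp⟩ => hP (hover P hPp))
      ((PrimeSpectrum.isClosedMap_comap_of_isIntegral (algebraMap A B)
        (fun x => Algebra.IsIntegral.isIntegral x) _
          (Algebra.isOpen_smoothLocus (R := K) (A := B)).isClosed_compl).isOpen_compl)
  let A' := Localization.Away g
  let B' := K ⊗[k] A'
  let ψ : B →ₐ[K] B' := Algebra.TensorProduct.map (AlgHom.id K K) (IsScalarTower.toAlgHom k A A')
  letI : Algebra B B' := ψ.toRingHom.toAlgebra
  haveI : IsScalarTower K B B' := IsScalarTower.of_algebraMap_eq fun x => (ψ.commutes x).symm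
  haveI : IsLocalization.Away (algebraMap A B g) B' := by
    have := IsLocalization.tensorProduct_tensorProduct_right k K (Submonoid.powers g) A' (by
      ext x; simp [RingHom.algebraMap_toAlgebra, ψ]; rfl)
    rwa [Submonoid.map_powers] at this
  haveI : Algebra.Smooth K B' := by
    haveI : Algebra.FinitePresentation K B' := inferInstance
    refine ⟨Algebra.smoothLocus_eq_univ_iff.mp ?_, inferInstance⟩
    rw [← Algebra.smoothLocus_comap_of_isLocalization (algebraMap A B g), Set.eq_univ_iff_forall]
    intro P
    by_contra hP
    refine hg (show PrimeSpectrum.comap (algebraMap A B) (PrimeSpectrum.comap (algebraMap B B') P) ∈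
      (PrimeSpectrum.basicOpen g : Set (PrimeSpectrum A)) from fun hgP => ?_) ⟨_, hP, rfl⟩
    exact P.isPrime.ne_top (Ideal.eq_top_of_isUnit_mem _ hgP
      (IsLocalization.Away.algebraMap_isUnit (S := B') (algebraMap A B g)))
  haveI : Algebra.Smooth k A' := .of_smooth_tensorProduct_of_faithfullyFlat K
  exact (Algebra.basicOpen_subset_smoothLocus_iff_smooth.mpr this) hpg

/-- The algebraic criterion at a point. -/
theorem isSmoothAt_of_span_of_flat {R S : Type u} [CommRing R] [CommRing S] [Algebra R S]
    [Algebra.FinitePresentation R S] {n : ℕ} (v : Fin n → Ω[S⁄R]) (hv : Submodule.span S (Set.range v) = ⊤)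
    (P : PrimeSpectrum S)
    (hflat : (Localization.localRingHom (P.asIdeal.comap (algebraMap R S)) P.asIdeal
      (algebraMap R S) rfl).Flat)
    (hdim : n ≤ Dim.Local.dimAt (PrimeSpectrum.comap (algebraMap R S) P).asIdeal.ResidueField
      (PrimeSpectrum.preimageHomeomorphFiber R S _ ⟨P, rfl⟩).asIdeal) :
    Algebra.IsSmoothAt R P.asIdeal := by
  let p := (PrimeSpectrum.comap (algebraMap R S) P).asIdeal
  haveI : P.asIdeal.LiesOver p := ⟨rfl⟩
  letI := Localization.AtPrime.algebraOfLiesOver p P.asIdeal
  haveI : Module.Flat (Localization.AtPrime p) (Localization.AtPrime P.asIdeal) := hflat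
  let κ := p.ResidueField
  let qF := PrimeSpectrum.preimageHomeomorphFiber R S _ ⟨P, rfl⟩
  letI : Algebra S (p.Fiber S) := Algebra.TensorProduct.rightAlgebra
  have hvF := span_map_baseChange (KaehlerDifferential.tensorKaehlerEquiv R κ S (p.Fiber S)) v hv
  refine Fiber.isSmoothAt p P.asIdeal qF.asIdeal ?_
    (isSmoothAt_of_span (n := n) κ _ hvF qF.asIdeal hdim)
  exact congrArg PrimeSpectrum.asIdeal (congrArg Subtype.val
    ((PrimeSpectrum.preimageHomeomorphFiber R S _).symm_apply_apply ⟨P, rfl⟩))

end Groth.Agent.Lib.FittSheaf.JacSpan
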