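import Groth.Agent.Lib.FittSheaf.Omega
import Groth.Agent.Lib.FittSheaf.Gen
import Groth.Agent.Lib.FittSheaf.JacSpan
import Groth.Agent.Lib.JacCrit.Scheme
import Groth.Agent.Lib.JacCrit.SmoothNhd
import Groth.Agent.Lib.TopDim.Basic

/-!
# The Jacobian criterion with Fitting ideals
-/

universe u

open CategoryTheory CategoryTheory.Limits AlgebraicGeometry TopologicalSpace Opposite

namespace Groth.Agent.Lib.FittSheaf

open Groth.Agent Groth.Agent.Lib

/-- Local dimension grows along inducing maps. -/
theorem localDim_le_of_isInducing {α β : Type u} [TopologicalSpace α] [TopologicalSpace β]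
    {φ : α → β} (h : Topology.IsInducing φ) (a : α) :
    FlatMor.localDim α a ≤ FlatMor.localDim β (φ a) :=
  le_iInf fun V => iInf_le_of_le ⟨⟨φ ⁻¹' V.1, V.1.2.preimage h.continuous⟩, V.2⟩
    (h.restrictPreimage (V.1 : Set β)).topologicalKrullDim_le

/-- Equidimensional spaces of finite type over a field have constant local dimension. -/
theorem localDim_eq_of_components {K : Type u} [Field K] {X : Scheme.{u}}
    (f : X ⟶ Spec (CommRingCat.of K)) [LocallyOfFiniteType f] (d : ℕ)
    (hdim : ∀ T ∈ irreducibleComponents X, topologicalKrullDim T = d) (x : X) :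
    FlatMor.localDim X x = d := by
  refine le_antisymm ((TopDim.Basic.localDim_le_topologicalKrullDim x).trans ?_) ?_
  · rw [TopDim.Basic.topologicalKrullDim_le_iff]
    intro s
    obtain ⟨T, hT, hle⟩ := exists_mem_irreducibleComponents_subset_of_isIrreducible _ s.last.isIrreducible
    exact (TopDim.Basic.length_le_of_last_subset s hle).trans (hdim T hT).le
  · let T := irreducibleComponent x
    have hT := irreducibleComponent_mem_irreducibleComponents x
    let J := Scheme.IdealSheafData.vanishingIdeal ⟨T, isClosed_irreducibleComponent⟩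
    have hr : Set.range J.subschemeι = T := by
      rw [Scheme.IdealSheafData.range_subschemeι, Scheme.IdealSheafData.coe_support_vanishingIdeal]
      rfl
    let e : J.subscheme ≃ₜ T :=
      (J.subschemeι.isEmbedding.toHomeomorph).trans (Homeomorph.setCongr hr)
    haveI : IrreducibleSpace T := Subtype.irreducibleSpace hT.1
    haveI : IrreducibleSpace J.subscheme :=
      e.symm.surjective.irreducibleSpace e.symm.continuous
    obtain ⟨z, hz⟩ : x ∈ Set.range J.subschemeι := hr.ge mem_irreducibleComponent
    rw [← hdim T hT, ← IsHomeomorph.topologicalKrullDim_eq _ e.isHomeomorph,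
      ← JacCrit.OverField.localDim_eq_of_irreducible (J.subschemeι ≫ f) z, ← hz]
    exact localDim_le_of_isInducing J.subschemeι.isEmbedding.isInducing z

/-- **Jacobian criterion**: off the `d`-th Fitting subscheme of `Ω` = smooth locus, for flat
finitely presented morphisms with fibres equidimensional of dimension `d`. -/
theorem omega_support_iff {X S : Scheme.{u}} (f : X ⟶ S) [Flat f] [LocallyOfFinitePresentation f]
    [QuasiSeparated f] (d : ℕ)
    (hdim : ∀ s : S, ∀ T ∈ irreducibleComponents ↥(f.fiber s), topologicalKrullDim T = d) (x : X) :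
    x ∈ (Fitt.sheafIdeal (Omega.sheaf f) d).support ↔ ¬ ∃ U : X.Opens, x ∈ U ∧ Smooth (U.ι ≫ f) := by
  haveI := (qcoh_ft_omega f).1
  haveI := (qcoh_ft_omega f).2
  haveI : LocallyOfFiniteType (f.fiberToSpecResidueField (f x)) :=
    inferInstanceAs (LocallyOfFiniteType (pullback.snd f (S.fromSpecResidueField (f x))))
  have hfd : FlatMor.fibreDimAt f x = (d : WithBot ℕ∞) :=
    localDim_eq_of_components (K := S.residueField (f x)) (f.fiberToSpecResidueField (f x)) d
      (hdim (f x)) (f.asFiber x)
  rw [← not_iff_not, not_not, JacCrit.SmoothNhd.exists_smooth_nhd_iff]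
  constructor
  · intro h
    obtain ⟨U₁, hxU₁, π, hπ⟩ := (exists_epi_iff (Omega.sheaf f) x d).2 h
    obtain ⟨V, hV, hxV, -⟩ := exists_isAffineOpen_mem_and_subset (show f x ∈ (⊤ : S.Opens) from trivial)
    obtain ⟨U₀, hU₀, hxU₀, hle⟩ := exists_isAffineOpen_mem_and_subset (show x ∈ f ⁻¹ᵁ V from hxV)
    haveI : Module.Finite Γ(X, U₀) Γ(Omega.sheaf f, U₀) := CohBasics.Affine.finite_sections hU₀
    obtain ⟨g, hg⟩ := exists_stalk_generators (Omega.sheaf f) π hxU₁
    obtain ⟨c, hc, t, ht⟩ : ∃ c : Γ(X, U₀), x ∈ X.basicOpen c ∧ ∃ t : Fin d → Γ(Omega.sheaf f, U₀),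
        ∀ w, c • w ∈ Submodule.span Γ(X, U₀) (Set.range t) := by
      have hf := H25.Fitting.ideal_eq_top g hg le_rfl
      obtain ⟨n, v, hv⟩ := Module.Finite.exists_fin (R := Γ(X, U₀)) (M := Γ(Omega.sheaf f, U₀))
      rw [fitt_stalk (Omega.sheaf f) hU₀ hxU₀, H25.Fitting.ideal_eq v hv, H25.Fitting.Mn,
        Ideal.map_span] at hf
      obtain ⟨z, e, hz, hu⟩ : ∃ (z : Fin (n - d) → Fin n → Γ(X, U₀)) (e : Fin (n - d) → Fin n),
          (∀ b, z b ∈ H25.Fitting.rel v) ∧
          IsUnit (X.presheaf.germ U₀ x hxU₀ (H25.Fitting.minor z e)) := by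
        by_contra hcon
        refine (IsLocalRing.maximalIdeal.isMaximal (X.presheaf.stalk x)).ne_top
          (top_le_iff.1 (hf ▸ ?_))
        rw [Ideal.span_le]
        rintro _ ⟨_, ⟨z, e, hz, rfl⟩, rfl⟩
        exact fun hu => hcon ⟨z, e, hz, hu⟩
      have he : Function.Injective e := by
        by_contra he
        rw [H25.Fitting.minor_eq_zero_of_not_injective z e he, map_zero] at hu
        exact not_isUnit_zero hu
      obtain ⟨t, ht⟩ := H25.Fitting.exists_span_sup v hv 1 (H25.Fitting.minor z e)
        (by rw [Ideal.span_singleton_one]; exact le_top) z hz e he (one_mul _).symm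
      refine ⟨_, (X.mem_basicOpen _ x hxU₀).2 hu, t, fun w => ?_⟩
      have := ht w
      rwa [one_smul, LinearMap.ker_id, sup_bot_eq] at this
    let U : X.Opens := X.basicOpen c
    have hU : IsAffineOpen U := hU₀.basicOpen c
    have e : U ≤ f ⁻¹ᵁ V := (X.basicOpen_le c).trans hle
    letI := Modules.ZeroLocus.modBasic c (Omega.sheaf f)
    letI := (X.presheaf.map (homOfLE (X.basicOpen_le c)).op).hom.toAlgebra
    haveI : IsLocalization.Away c Γ(X, U) := hU₀.isLocalization_basicOpen c
    haveI : IsScalarTower Γ(X, U₀) Γ(X, U) Γ(Omega.sheaf f, U) :=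
      IsScalarTower.of_algebraMap_smul fun _ _ => rfl
    haveI := Modules.ZeroLocus.isLocalizedModule_resBasic hU₀ c (Omega.sheaf f)
    have hspan : Submodule.span Γ(X, U)
        (Modules.ZeroLocus.resBasic c (Omega.sheaf f) '' Set.range t) = ⊤ := by
      rw [eq_top_iff]
      intro y _
      obtain ⟨⟨w, s⟩, hws⟩ := IsLocalizedModule.surj (Submonoid.powers c)
        (Modules.ZeroLocus.resBasic c (Omega.sheaf f)) y
      have key : ∀ u ∈ Submodule.span Γ(X, U₀) (Set.range t),
          Modules.ZeroLocus.resBasic c (Omega.sheaf f) u ∈ Submodule.span Γ(X, U)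
            (Modules.ZeroLocus.resBasic c (Omega.sheaf f) '' Set.range t) := fun u hu =>
        Submodule.span_le_restrictScalars Γ(X, U₀) Γ(X, U) _
          ((Submodule.span_image _).ge (Submodule.mem_map_of_mem hu))
      have h2 := key _ (ht w)
      rw [map_smul, ← hws, Submonoid.smul_def, ← mul_smul, ← algebraMap_smul Γ(X, U)] at h2
      refine (Submodule.smul_mem_iff_of_isUnit _ ?_).1 h2
      rw [map_mul]
      exact (IsLocalization.Away.algebraMap_isUnit c).mul (IsLocalization.map_units Γ(X, U) s)
    haveI := Kaehler.ToSect.isIso_toSect f hU hV e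
    let E := (asIso (OmAff.toSect f V U e)).toLinearEquiv
    letI := (f.appLE V U e).hom.toAlgebra
    haveI : Algebra.FinitePresentation Γ(S, V) Γ(X, U) := f.finitePresentation_appLE hV hU e
    have hv : Submodule.span Γ(X, U)
        (Set.range fun i => E.symm (Modules.ZeroLocus.resBasic c (Omega.sheaf f) (t i))) = ⊤ := by
      rw [show (fun i => E.symm (Modules.ZeroLocus.resBasic c (Omega.sheaf f) (t i))) =
        E.symm ∘ (Modules.ZeroLocus.resBasic c (Omega.sheaf f) ∘ t) from rfl,
        Set.range_comp, ← LinearEquiv.coe_coe, Submodule.span_image, Set.range_comp]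
      exact (congrArg (Submodule.map E.symm.toLinearMap) hspan).trans
        ((Submodule.map_top _).trans E.symm.range)
    let P := hU.primeIdealOf ⟨x, hc⟩
    rw [Scheme.Hom.mem_smoothLocus, formallySmooth_stalkMap_iff V hV U hU e hc]
    refine JacSpan.isSmoothAt_of_span_of_flat (R := Γ(S, V)) (S := Γ(X, U)) _ hv P ?_ ?_
    · have h := (RingHom.Flat.respectsIso.arrow_mk_iso_iff
        (IsAffineOpen.arrowStalkMapIso f V hV U hU e hc)).mp (Flat.stalkMap f x)
      have key : ∀ (J : Ideal Γ(S, V)) [J.IsPrime]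
          (hJ : J = P.asIdeal.comap (f.appLE V U e).hom),
          (Localization.localRingHom J P.asIdeal (f.appLE V U e).hom hJ).Flat →
          (Localization.localRingHom (P.asIdeal.comap (f.appLE V U e).hom) P.asIdeal
            (f.appLE V U e).hom rfl).Flat := by
        rintro J _ rfl h; exact h
      exact key _ congr($(IsAffineOpen.comap_primeIdealOf_appLE V hV U hU e hc).1).symm h
    · have h := FibreDim.Chart.fibreDimAt_eq_dimAt f hV.fromSpec hU.fromSpec
        (hV.SpecMap_appLE_fromSpec f hU e) P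
      have hP : hU.fromSpec P = x := hU.fromSpec_primeIdealOf ⟨x, hc⟩
      rw [show hU.fromSpec.base P = x from hP, hfd] at h
      exact_mod_cast h.le
  · intro h
    obtain ⟨-, U, n, hxU, ⟨i⟩, hn⟩ :=
      (JacCrit.Scheme'.mem_smoothLocus_iff (Kaehler.DOmega.isUniversal_dOmega f) x).1 h
    rw [hfd] at hn
    obtain rfl : d = n := by exact_mod_cast hn
    exact (exists_epi_iff (Omega.sheaf f) x d).1 ⟨U, hxU, i.inv, inferInstance⟩

end Groth.Agent.Lib.FittSheaf
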