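import Groth.Prelude.Def_Fitting
import Groth.Agent.H25.Fitting
import Groth.Agent.Lib.CohBasics.Affine
import Groth.Agent.Lib.Modules.ZeroLocus
import Groth.Agent.Lib.Modules.SupportOps
import Groth.Agent.Lib.StalkLoc.Basic
import Groth.Agent.Lib.DerivedOX.PullbackStalk
import Groth.Agent.Lib.Ideal.Comap
import Mathlib.RingTheory.Localization.BaseChange

/-!
# Fitting ideal sheaves on affine opens and on stalks
-/

universe u

open CategoryTheory AlgebraicGeometry TopologicalSpace Opposite

namespace Groth.Agent.Lib.FittSheaf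

open Groth.Agent Groth.Agent.Lib

variable {X : Scheme.{u}} (F : X.Modules) [F.IsQuasicoherent]

/-- Stalks of modules with finite sections are finite. -/
theorem finite_stalk {U : X.Opens} (hU : IsAffineOpen U) [Module.Finite Γ(X, U) Γ(F, U)] {x : X}
    (hx : x ∈ U) : Module.Finite (X.presheaf.stalk x) (F.presheaf.stalk x) := by
  letI := X.presheaf.algebra_section_stalk ⟨x, hx⟩
  letI := StalkLoc.Basic.moduleSections F hx
  haveI := StalkLoc.Basic.isScalarTower_sections F hx
  haveI := hU.isLocalization_stalk ⟨x, hx⟩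
  haveI := StalkLoc.Basic.isLocalizedModule_germ (M := F) hU hx
  exact Module.Finite.of_isLocalizedModule (hU.primeIdealOf ⟨x, hx⟩).asIdeal.primeCompl
    (StalkLoc.Basic.germₗ F hx)

/-- The Fitting ideal of a stalk is the extension of that of the sections. -/
theorem fitt_stalk {U : X.Opens} (hU : IsAffineOpen U) [Module.Finite Γ(X, U) Γ(F, U)] {x : X}
    (hx : x ∈ U) (r : ℕ) :
    Fitt.ideal (X.presheaf.stalk x) (F.presheaf.stalk x) r =
      (Fitt.ideal Γ(X, U) Γ(F, U) r).map (X.presheaf.germ U x hx).hom := by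
  letI := X.presheaf.algebra_section_stalk ⟨x, hx⟩
  letI := StalkLoc.Basic.moduleSections F hx
  haveI := StalkLoc.Basic.isScalarTower_sections F hx
  haveI := hU.isLocalization_stalk ⟨x, hx⟩
  haveI := StalkLoc.Basic.isLocalizedModule_germ (M := F) hU hx
  exact H25.Fitting.ideal_of_isBaseChange _
    (IsLocalizedModule.isBaseChange (hU.primeIdealOf ⟨x, hx⟩).asIdeal.primeCompl _
      (StalkLoc.Basic.germₗ F hx)) r

variable [SheafOfModules.IsFiniteType (R := X.ringCatSheaf) F]

/-- The Fitting ideal sheaf of a finite type module has the expected values. -/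
theorem ideal_sheafIdeal (U : X.affineOpens) (r : ℕ) :
    (Fitt.sheafIdeal F r).ideal U = Fitt.ideal Γ(X, U.1) Γ(F, U.1) r := by
  let I : X.IdealSheafData :=
    { ideal := fun U => Fitt.ideal Γ(X, U.1) Γ(F, U.1) r
      map_ideal_basicOpen := fun U f => by
        haveI : Module.Finite Γ(X, U.1) Γ(F, U.1) := CohBasics.Affine.finite_sections U.2
        letI := Modules.ZeroLocus.modBasic f F
        letI := (X.presheaf.map (homOfLE (X.basicOpen_le f)).op).hom.toAlgebra
        haveI : IsLocalization.Away f Γ(X, X.basicOpen f) := U.2.isLocalization_basicOpen f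
        haveI : IsScalarTower Γ(X, U.1) Γ(X, X.basicOpen f) Γ(F, X.basicOpen f) :=
          IsScalarTower.of_algebraMap_smul fun _ _ => rfl
        haveI := Modules.ZeroLocus.isLocalizedModule_resBasic U.2 f F
        haveI := ‹IsScalarTower Γ(X, U.1) Γ(X, X.basicOpen f) Γ(F, X.basicOpen f)›
        have hbc : IsBaseChange Γ(X, X.basicOpen f) (Modules.ZeroLocus.resBasic f F) :=
          IsLocalizedModule.isBaseChange (Submonoid.powers f) _ _
        exact (H25.Fitting.ideal_of_isBaseChange Γ(X, X.basicOpen f) hbc r).symm }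
  have h : Fitt.sheafIdeal F r = I := Scheme.IdealSheafData.ofIdeals_ideal I
  rw [h]

theorem map_sheafIdeal (U : X.affineOpens) {x : X} (hx : x ∈ U.1) (r : ℕ) :
    ((Fitt.sheafIdeal F r).ideal U).map (X.presheaf.germ U.1 x hx).hom =
      Fitt.ideal (X.presheaf.stalk x) (F.presheaf.stalk x) r := by
  haveI : Module.Finite Γ(X, U.1) Γ(F, U.1) := CohBasics.Affine.finite_sections U.2
  rw [ideal_sheafIdeal, fitt_stalk F U.2 hx]

/-- The points off the Fitting subscheme. -/
theorem not_mem_support_iff (x : X) (r : ℕ) :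
    x ∉ (Fitt.sheafIdeal F r).support ↔
      Fitt.ideal (X.presheaf.stalk x) (F.presheaf.stalk x) r = ⊤ := by
  obtain ⟨U, hU, hx, -⟩ := exists_isAffineOpen_mem_and_subset (show x ∈ (⊤ : X.Opens) from trivial)
  rw [← map_sheafIdeal F ⟨U, hU⟩ hx, Scheme.IdealSheafData.mem_support_iff_of_mem (U := ⟨U, hU⟩) hx,
    Scheme.mem_zeroLocus_iff]
  set I := (Fitt.sheafIdeal F r).ideal ⟨U, hU⟩
  constructor
  · intro h
    push Not at h
    obtain ⟨a, ha, hxa⟩ := h
    exact Ideal.eq_top_of_isUnit_mem _ (Ideal.mem_map_of_mem _ ha) ((X.mem_basicOpen a x hx).1 hxa)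
  · intro h hc
    refine (IsLocalRing.maximalIdeal.isMaximal (X.presheaf.stalk x)).ne_top (top_le_iff.1 (h ▸ ?_))
    rw [Ideal.map_le_iff_le_comap]
    exact fun a ha hu => hc a ha ((X.mem_basicOpen a x hx).2 hu)

/-- Ideals on an affine open are determined by their stalks. -/
theorem le_of_map_germ {V : X.Opens} (hV : IsAffineOpen V) {I J : Ideal Γ(X, V)}
    (h : ∀ x (hx : x ∈ V), I.map (X.presheaf.germ V x hx).hom ≤ J.map (X.presheaf.germ V x hx).hom) :
    I ≤ J := by
  intro a ha
  by_contra haJ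
  let K : Ideal Γ(X, V) := J.colon {a}
  have hK : K ≠ ⊤ := fun h => haJ (by
    have := (h ▸ Submodule.mem_top : (1 : Γ(X, V)) ∈ K)
    simpa [K, Submodule.mem_colon_singleton] using this)
  obtain ⟨m, hm, hKm⟩ := Ideal.exists_le_maximal K hK
  let p : Spec Γ(X, V) := ⟨m, hm.isPrime⟩
  have hx : hV.fromSpec p ∈ V := hV.range_fromSpec.le (Set.mem_range_self p)
  have hp : hV.primeIdealOf ⟨_, hx⟩ = p :=
    hV.fromSpec.isOpenEmbedding.injective (hV.fromSpec_primeIdealOf ⟨_, hx⟩)
  letI := X.presheaf.algebra_section_stalk ⟨_, hx⟩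
  haveI := hV.isLocalization_stalk ⟨_, hx⟩
  have h1 := h _ hx (Ideal.mem_map_of_mem _ ha)
  obtain ⟨⟨⟨b, hb⟩, t⟩, hbt⟩ := (IsLocalization.mem_map_algebraMap_iff
    (hV.primeIdealOf ⟨_, hx⟩).asIdeal.primeCompl (X.presheaf.stalk (hV.fromSpec p))).1 h1
  change algebraMap _ _ a * algebraMap _ _ (t : Γ(X, V)) = algebraMap _ _ b at hbt
  rw [← map_mul] at hbt
  obtain ⟨c, hc⟩ := (IsLocalization.eq_iff_exists
    (hV.primeIdealOf ⟨_, hx⟩).asIdeal.primeCompl _).1 hbt
  have hct : (c : Γ(X, V)) * t ∈ m := by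
    refine hKm (Submodule.mem_colon_singleton.2 ?_)
    rw [smul_eq_mul, mul_assoc, mul_comm (t : Γ(X, V)) a, hc]
    exact J.mul_mem_left _ hb
  rcases hm.isPrime.mem_or_mem hct with h' | h'
  · exact c.2 ((congrArg PrimeSpectrum.asIdeal hp).ge h')
  · exact t.2 ((congrArg PrimeSpectrum.asIdeal hp).ge h')

theorem eq_of_map_germ {V : X.Opens} (hV : IsAffineOpen V) {I J : Ideal Γ(X, V)}
    (h : ∀ x (hx : x ∈ V), I.map (X.presheaf.germ V x hx).hom = J.map (X.presheaf.germ V x hx).hom) :
    I = J :=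
  le_antisymm (le_of_map_germ hV fun x hx => (h x hx).le) (le_of_map_germ hV fun x hx => (h x hx).ge)

/-- The Fitting ideal of a stalk of an inverse image. -/
theorem fitt_pullback_stalk {Y : Scheme.{u}} (f : Y ⟶ X) (y : Y) (r : ℕ) :
    Fitt.ideal (Y.presheaf.stalk y) (((Scheme.Modules.pullback f).obj F).presheaf.stalk y) r =
      (Fitt.ideal (X.presheaf.stalk (f y)) (F.presheaf.stalk (f y)) r).map (f.stalkMap y).hom := by
  obtain ⟨U, hU, hx, -⟩ := exists_isAffineOpen_mem_and_subset (show f y ∈ (⊤ : X.Opens) from trivial)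
  haveI : Module.Finite Γ(X, U) Γ(F, U) := CohBasics.Affine.finite_sections hU
  haveI := finite_stalk F hU hx
  letI : Algebra (X.presheaf.stalk (f y)) (Y.presheaf.stalk y) := (f.stalkMap y).hom.toAlgebra
  let e : TensorProduct (X.presheaf.stalk (f y)) (Y.presheaf.stalk y) (F.presheaf.stalk (f y))
      ≃ₗ[Y.presheaf.stalk y] ((Scheme.Modules.pullback f).obj F).presheaf.stalk y :=
    ((DerivedOX.PullbackStalk.pullbackStalkIso f y).app F).toLinearEquiv
  rw [← H25.Fitting.ideal_congr e r]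
  exact H25.Fitting.ideal_baseChange _ r

/-- **Fitting ideal sheaves commute with inverse images.** -/
theorem sheafIdeal_comap {Y : Scheme.{u}} (f : Y ⟶ X) (r : ℕ) :
    (Fitt.sheafIdeal F r).comap f = Fitt.sheafIdeal ((Scheme.Modules.pullback f).obj F) r := by
  haveI := QCoh.Pullback.isQCoh_pullback f F
  haveI := Modules.SupportOps.isFT_pullback f F
  refine Ideal.Comap.ext_of_affine_pairs f fun U V e => eq_of_map_germ V.2 fun y hy => ?_
  rw [map_sheafIdeal, fitt_pullback_stalk, ← map_sheafIdeal F U (e hy), Ideal.Comap.ideal_comap f _ U V e,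
    Ideal.map_map, Ideal.map_map]
  congr 1
  ext a
  exact (Scheme.Hom.germ_stalkMap_apply f U.1 y (e hy) a).trans
    (TopCat.Presheaf.germ_res_apply Y.presheaf (homOfLE e) y hy (f.app U.1 a)).symm |>.symm

end Groth.Agent.Lib.FittSheaf
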