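import Groth.Agent.Lib.FittSheaf.Basic
import Groth.Agent.Lib.Kaehler.Finite
import Groth.Agent.Lib.Kaehler.DOmega
import Groth.Agent.Lib.Kaehler.ToSect
import Groth.Agent.H63.SectionOmega
import Groth.Agent.H47.UnramLocus
import Groth.Prelude.Def_CohB1

/-!
# Fitting ideals of the sheaf of differentials
-/

universe u

open CategoryTheory CategoryTheory.Limits AlgebraicGeometry TopologicalSpace Opposite

namespace Groth.Agent.Lib.FittSheaf

open Groth.Agent Groth.Agent.Lib

variable {X : Scheme.{u}}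

theorem sheafIdeal_congr (F G : X.Modules) [F.IsQuasicoherent]
    [SheafOfModules.IsFiniteType (R := X.ringCatSheaf) F] [G.IsQuasicoherent]
    [SheafOfModules.IsFiniteType (R := X.ringCatSheaf) G] (e : F ≅ G) (r : ℕ) :
    Fitt.sheafIdeal F r = Fitt.sheafIdeal G r := by
  refine Scheme.IdealSheafData.ext (funext fun U => eq_of_map_germ U.2 fun x hx => ?_)
  haveI : Module.Finite Γ(X, U.1) Γ(F, U.1) := CohBasics.Affine.finite_sections U.2
  haveI := finite_stalk F U.2 hx
  rw [map_sheafIdeal, map_sheafIdeal]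
  let e' : F.presheaf.stalk x ≃ₗ[X.presheaf.stalk x] G.presheaf.stalk x :=
    ((Modules.StalkModule.stalkModFunctor X x).mapIso e).toLinearEquiv
  exact H25.Fitting.ideal_congr e' r

variable (F : X.Modules) [F.IsQuasicoherent] [SheafOfModules.IsFiniteType (R := X.ringCatSheaf) F]

/-- The zeroth Fitting ideal cuts out the support. -/
theorem mem_support_fitt_zero_iff (x : X) :
    x ∈ (Fitt.sheafIdeal F 0).support ↔ ¬ Subsingleton (F.presheaf.stalk x) := by
  obtain ⟨U, hU, hx, -⟩ := exists_isAffineOpen_mem_and_subset (show x ∈ (⊤ : X.Opens) from trivial)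
  haveI : Module.Finite Γ(X, U) Γ(F, U) := CohBasics.Affine.finite_sections hU
  haveI := finite_stalk F hU hx
  rw [← not_iff_not, not_mem_support_iff, not_not]
  constructor
  · intro h
    refine ⟨fun a b => ?_⟩
    have h1 := H25.Fitting.ideal_zero_le_annihilator (R := X.presheaf.stalk x)
      (M := F.presheaf.stalk x) (h ▸ Submodule.mem_top : (1 : X.presheaf.stalk x) ∈ _)
    rw [Module.mem_annihilator] at h1
    rw [← one_smul (X.presheaf.stalk x) a, ← one_smul (X.presheaf.stalk x) b, h1 a, h1 b]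
  · intro h
    exact H25.Fitting.ideal_eq_top (Fin.elim0 : Fin 0 → F.presheaf.stalk x)
      (Subsingleton.elim _ _) le_rfl

theorem exists_not_mem_support (x : X) : ∃ r, x ∉ (Fitt.sheafIdeal F r).support := by
  obtain ⟨U, hU, hx, -⟩ := exists_isAffineOpen_mem_and_subset (show x ∈ (⊤ : X.Opens) from trivial)
  haveI : Module.Finite Γ(X, U) Γ(F, U) := CohBasics.Affine.finite_sections hU
  haveI := finite_stalk F hU hx
  obtain ⟨n, g, hg⟩ := Module.Finite.exists_fin (R := X.presheaf.stalk x) (M := F.presheaf.stalk x)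
  exact ⟨n, (not_mem_support_iff F x n).2 (H25.Fitting.ideal_eq_top g hg le_rfl)⟩

variable {S S' : Scheme.{u}}

theorem qcoh_ft_omega (f : X ⟶ S) [LocallyOfFiniteType f] [QuasiSeparated f] :
    (Omega.sheaf f).IsQuasicoherent ∧
      SheafOfModules.IsFiniteType (R := X.ringCatSheaf) (Omega.sheaf f) :=
  ⟨Kaehler.Finite.isQuasicoherent (Kaehler.DOmega.isUniversal_dOmega f),
    Kaehler.Finite.isFT (Kaehler.DOmega.isUniversal_dOmega f)⟩

/-- Fitting ideals of differentials commute with base change. -/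
theorem omega_comap (f : X ⟶ S) [LocallyOfFiniteType f] [QuasiSeparated f] (g : S' ⟶ S) (r : ℕ) :
    (Fitt.sheafIdeal (Omega.sheaf f) r).comap (pullback.fst f g) =
      Fitt.sheafIdeal (Omega.sheaf (pullback.snd f g)) r := by
  haveI := (qcoh_ft_omega f).1
  haveI := (qcoh_ft_omega f).2
  haveI := (qcoh_ft_omega (pullback.snd f g)).1
  haveI := (qcoh_ft_omega (pullback.snd f g)).2
  haveI := QCoh.Pullback.isQCoh_pullback (pullback.fst f g) (Omega.sheaf f)
  haveI := Modules.SupportOps.isFT_pullback (pullback.fst f g) (Omega.sheaf f)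
  rw [sheafIdeal_comap]
  obtain ⟨e⟩ := H63.SectionOmega.nonempty_pullback_sheaf_iso (IsPullback.of_hasPullback f g)
    (Kaehler.DOmega.isUniversal_dOmega (pullback.snd f g))
  exact sheafIdeal_congr _ _ e r

/-- The zeroth Fitting ideal of the differentials cuts out the ramified locus. -/
theorem omega_support_zero (f : X ⟶ S) [LocallyOfFiniteType f] [QuasiSeparated f] (x : X) :
    x ∈ (Fitt.sheafIdeal (Omega.sheaf f) 0).support ↔
      ¬ ∃ U : X.Opens, x ∈ U ∧ FormallyUnramified (U.ι ≫ f) := by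
  haveI := (qcoh_ft_omega f).1
  haveI := (qcoh_ft_omega f).2
  rw [mem_support_fitt_zero_iff, not_iff_not,
    Unram.AtPrime.exists_formallyUnramified_nhd_iff f x]
  obtain ⟨V, U, hV, hU, hx, e⟩ := Kaehler.Chart.exists_chart f x
  rw [H47.UnramLocus.stalkMap_iff_isUnramifiedAt f hV hU e hx]
  haveI := Kaehler.ToSect.isIso_toSect f hU hV e
  let E := (asIso (OmAff.toSect f V U e)).toLinearEquiv
  letI := (f.appLE V U e).hom.toAlgebra
  set p := hU.primeIdealOf ⟨x, hx⟩
  change _ ↔ p ∈ Algebra.unramifiedLocus Γ(S, V) Γ(X, U)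
  rw [Algebra.unramifiedLocus_eq_compl_support, Set.mem_compl_iff, Module.notMem_support_iff]
  letI := StalkLoc.Basic.moduleSections (Omega.sheaf f) hx
  haveI := StalkLoc.Basic.isLocalizedModule_germ (M := Omega.sheaf f) hU hx
  let e1 := IsLocalizedModule.iso p.asIdeal.primeCompl (StalkLoc.Basic.germₗ (Omega.sheaf f) hx)
  rw [← e1.toEquiv.subsingleton_congr]
  exact (IsLocalizedModule.mapEquiv p.asIdeal.primeCompl
    (LocalizedModule.mkLinearMap p.asIdeal.primeCompl Γ(Omega.sheaf f, U))
    (LocalizedModule.mkLinearMap p.asIdeal.primeCompl _)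
    (Localization.AtPrime p.asIdeal) E.symm).toEquiv.subsingleton_congr

end Groth.Agent.Lib.FittSheaf
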