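import Groth.Agent.Lib.FittSheaf.Omega
import Groth.Agent.H25.Fitting
import Mathlib.RingTheory.Unramified.LocalStructure
import Mathlib.RingTheory.LocalRing.Module

/-! Unramified over a polynomial ring when the Fitting ideal of the differentials is trivial. -/

universe u

open TensorProduct KaehlerDifferential

namespace Groth.Agent.Lib.FittSheaf

theorem exists_isUnramifiedAt_mvPolynomial {A B : Type u} [CommRing A] [CommRing B] [Algebra A B]
    [Algebra.EssFiniteType A B] (q : Ideal B) [q.IsPrime] {p : ℕ}
    (h : ¬ Fitt.ideal B Ω[B⁄A] p ≤ q) :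
    ∃ b : Fin p → B, letI := (MvPolynomial.aeval (R := A) b).toAlgebra
      Algebra.IsUnramifiedAt (MvPolynomial (Fin p) A) q := by
  classical
  let K := q.ResidueField
  have hfit : Fitt.ideal K (K ⊗[B] Ω[B⁄A]) p = ⊤ := by
    rw [Groth.Agent.H25.Fitting.ideal_baseChange (R := B) (M := Ω[B⁄A]) K p]
    refine (Ideal.eq_bot_or_top _).resolve_left fun hbot => h fun a ha => ?_
    have := Ideal.mem_map_of_mem (algebraMap B K) ha
    rw [hbot, Ideal.mem_bot] at this
    exact Ideal.algebraMap_residueField_eq_zero.1 this
  have hrank : Module.finrank K (K ⊗[B] Ω[B⁄A]) ≤ p := by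
    by_contra hc
    rw [Groth.Agent.H25.Fitting.ideal_eq_bot_of_free (not_le.1 hc)] at hfit
    exact bot_ne_top hfit
  let S : Set (K ⊗[B] Ω[B⁄A]) := Set.range fun b : B => (1 : K) ⊗ₜ[B] D A B b
  have hS : Submodule.span K S = ⊤ := by
    rw [eq_top_iff]
    intro z _
    induction z with
    | zero => exact zero_mem _
    | add x y hx hy => exact add_mem (hx trivial) (hy trivial)
    | tmul a m =>
      rw [show a ⊗ₜ[B] m = a • ((1 : K) ⊗ₜ[B] m) by rw [smul_tmul', smul_eq_mul, mul_one]]
      refine Submodule.smul_mem _ _ ?_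
      have hm : m ∈ Submodule.span B (Set.range (D A B)) := by rw [span_range_derivation]; trivial
      clear * - hm
      induction hm using Submodule.span_induction with
      | mem x hx => obtain ⟨b, rfl⟩ := hx; exact Submodule.subset_span ⟨b, rfl⟩
      | zero => rw [tmul_zero]; exact zero_mem _
      | add x y _ _ hx hy => rw [tmul_add]; exact add_mem hx hy
      | smul c x _ hx =>
        rw [tmul_smul, ← algebraMap_smul K c]
        exact Submodule.smul_mem _ _ hx
  obtain ⟨t, htS, htspan, htli⟩ := exists_linearIndependent K S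
  haveI : Fintype t := htli.setFinite.fintype
  have hcard : Fintype.card t ≤ Fintype.card (Fin p) :=
    (htli.fintype_card_le_finrank).trans (hrank.trans (Fintype.card_fin p).ge)
  obtain ⟨e⟩ := Function.Embedding.nonempty_of_card_le hcard
  choose pre hpre using fun z : t => htS z.2
  let b : Fin p → B := Function.extend e pre 0
  refine ⟨b, ?_⟩
  letI := (MvPolynomial.aeval (R := A) b).toAlgebra
  haveI : IsScalarTower A (MvPolynomial (Fin p) A) B :=
    .of_algebraMap_eq' (MvPolynomial.aeval b).comp_algebraMap.symm
  let π := KaehlerDifferential.map A (MvPolynomial (Fin p) A) B B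
  have hπ : Function.Surjective π := KaehlerDifferential.map_surjective _ _ _
  haveI : Module.Finite B Ω[B⁄MvPolynomial (Fin p) A] := Module.Finite.of_surjective π hπ
  have hsurj : Function.Surjective (π.baseChange K) := LinearMap.lTensor_surjective K hπ
  have hzero : π.baseChange K = 0 := by
    refine LinearMap.ext_on (s := t) (by rw [htspan, hS]) ?_
    intro z hz
    refine (congrArg (π.baseChange K) (hpre ⟨z, hz⟩).symm).trans ?_
    rw [LinearMap.zero_apply, LinearMap.baseChange_tmul]
    have hb : pre ⟨z, hz⟩ = algebraMap (MvPolynomial (Fin p) A) B (MvPolynomial.X (e ⟨z, hz⟩)) := by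
      rw [RingHom.algebraMap_toAlgebra]
      exact ((MvPolynomial.aeval_X b _).trans (e.injective.extend_apply pre 0 _)).symm
    rw [hb, show π (D A B _) = _ from KaehlerDifferential.map_D _ _ _ _ _,
      Algebra.algebraMap_self, RingHom.id_apply, Derivation.map_algebraMap, tmul_zero]
  haveI : Subsingleton (K ⊗[B] Ω[B⁄MvPolynomial (Fin p) A]) := ⟨fun x y => by
    obtain ⟨x, rfl⟩ := hsurj x
    obtain ⟨y, rfl⟩ := hsurj y
    rw [hzero, LinearMap.zero_apply, LinearMap.zero_apply]⟩
  have hmem : (⟨q, inferInstance⟩ : PrimeSpectrum B) ∈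
      Algebra.unramifiedLocus (MvPolynomial (Fin p) A) B := by
    rw [Algebra.unramifiedLocus_eq_compl_support, Set.mem_compl_iff,
      Module.mem_support_iff_nontrivial_residueField_tensorProduct, not_nontrivial_iff_subsingleton]
    infer_instance
  exact hmem

end Groth.Agent.Lib.FittSheaf
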